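import Mathlib

/-!
# S4842, the middle case `x = 2 n` of type `B_n`/`C_n`: the Hecke module (helper985's (1))

`E` a finite dimensional complex space with operators `T 0, …, T (n-1)`, `(T i - q i)(T i + 1) = 0`, the braid relations of
type `B_n` (the double bond joins the nodes `n - 2` and `n - 1`), no proper invariant subspace. `F i = ker (T i - q i)`.

* `mid` : if `∑ dim F i = dim E` then the `F i` intersect trivially in pairs, and one of
  (a) `dim E = 1`, `F i = 0` for `i < n - 1`, `F (n - 1) = E`;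
  (b) `dim E = n - 1`, `dim F i = 1` for `i < n - 1`, `F (n - 1) = 0`;
  (c) `dim E = n`, `dim F i = 1` for all `i`.
* `mid_equiv` : the same for an arbitrary index type.
-/

set_option autoImplicit false
set_option linter.unusedSectionVars false

namespace Cfsg.Agent.H639.OZ

open Module LinearMap

variable {E : Type*} [AddCommGroup E] [Module ℂ E]

/-- the `q`-eigenspace -/
noncomputable def Fq (T : Module.End ℂ E) (q : ℕ) : Submodule ℂ E := LinearMap.ker (T - (q : ℂ) • (1 : Module.End ℂ E))

theorem mem_Fq {T : Module.End ℂ E} {q : ℕ} {v : E} : v ∈ Fq T q ↔ T v = (q : ℂ) • v := by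
  unfold Fq
  rw [LinearMap.mem_ker, LinearMap.sub_apply, LinearMap.smul_apply, Module.End.one_apply, sub_eq_zero]

/-- the quadratic relation -/
def Quad (T : Module.End ℂ E) (q : ℕ) : Prop := (T - (q : ℂ) • (1 : Module.End ℂ E)) * (T + 1) = 0

theorem Quad.mem {T : Module.End ℂ E} {q : ℕ} (h : Quad T q) (v : E) : T v + v ∈ Fq T q := by
  have := congrArg (fun f : Module.End ℂ E => f v) h
  rw [mem_Fq]
  simp only [Module.End.mul_apply, LinearMap.add_apply, LinearMap.sub_apply, LinearMap.smul_apply,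
    Module.End.one_apply, LinearMap.zero_apply] at this
  exact sub_eq_zero.1 this

theorem Quad.sq {T : Module.End ℂ E} {q : ℕ} (h : Quad T q) (v : E) :
    T (T v) = ((q : ℂ) - 1) • T v + (q : ℂ) • v := by
  have := mem_Fq.1 (h.mem v)
  rw [map_add, smul_add] at this
  rw [eq_sub_of_add_eq this]
  module

theorem Quad.neg {T : Module.End ℂ E} {q : ℕ} (h : Quad T q) (hF : Fq T q = ⊥) (v : E) : T v = -v := by
  have := h.mem v
  rw [hF, Submodule.mem_bot] at this
  exact eq_neg_of_add_eq_zero_left this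

section pairs

variable {S T : Module.End ℂ E} {a b : ℕ}

/-- commuting operators without common fixed vectors -/
theorem add_one_two (hS : Quad S a) (hT : Quad T b) (hc : S * T = T * S) (h0 : Fq S a ⊓ Fq T b = ⊥) (v : E) :
    S (T v + v) + (T v + v) = 0 := by
  have hc' : ∀ w, S (T w) = T (S w) := fun w => congrArg (fun f : Module.End ℂ E => f w) hc
  have h1 : S (T v + v) + (T v + v) ∈ Fq S a := hS.mem _
  have h2 : S (T v + v) + (T v + v) = T (S v + v) + (S v + v) := by
    rw [map_add, map_add, hc']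
    abel
  have h3 : S (T v + v) + (T v + v) ∈ Fq T b := by rw [h2]; exact hT.mem _
  have h4 : S (T v + v) + (T v + v) ∈ Fq S a ⊓ Fq T b := ⟨h1, h3⟩
  rwa [h0, Submodule.mem_bot] at h4

/-- simple bond, no common fixed vectors: `(S + 1)(T + 1)(S + 1) = q (S + 1)` -/
theorem add_one_three (hS : Quad S a) (hT : Quad T a) (hb : S * T * S = T * S * T) (h0 : Fq S a ⊓ Fq T a = ⊥)
    {v : E} (hv : v ∈ Fq S a) : S (T v + v) + (T v + v) = (a : ℂ) • v := by
  have hb' : ∀ w, S (T (S w)) = T (S (T w)) := fun w => congrArg (fun f : Module.End ℂ E => f w) hb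
  -- `C = ∑ T_w`
  set c : E := S (T (S v)) + S (T v) + T (S v) + S v + T v + v with hc
  have hSS := hS.sq
  have hTT := hT.sq
  have h1 : c ∈ Fq S a := by
    rw [mem_Fq, hc]
    simp only [map_add, hSS, smul_add]
    module
  have h2 : c ∈ Fq T a := by
    rw [mem_Fq, hc, hb']
    simp only [map_add, hTT, smul_add]
    module
  have h3 : c ∈ Fq S a ⊓ Fq T a := ⟨h1, h2⟩
  rw [h0, Submodule.mem_bot, hc, mem_Fq.1 hv] at h3
  simp only [map_smul] at h3
  have h4 : ((a : ℂ) + 1) • (S (T v + v) + (T v + v) - (a : ℂ) • v) = 0 := by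
    rw [← h3, map_add, mem_Fq.1 hv]
    module
  have h5 : ((a : ℂ) + 1) ≠ 0 := by exact_mod_cast Nat.succ_ne_zero a
  exact sub_eq_zero.1 ((smul_eq_zero.1 h4).resolve_left h5)

/-- double bond, no common fixed vectors: on `Fq S` the operator `(S + 1)(T + 1)` has square `a + b` times itself -/
theorem add_one_four (hS : Quad S a) (hT : Quad T b) (hb : S * T * S * T = T * S * T * S) (h0 : Fq S a ⊓ Fq T b = ⊥)
    (v : E) :
    S (T (S (T v + v) + (T v + v)) + (S (T v + v) + (T v + v))) +
      (T (S (T v + v) + (T v + v)) + (S (T v + v) + (T v + v))) =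
      ((a : ℂ) + b) • (S (T v + v) + (T v + v)) := by
  have hb' : ∀ w, S (T (S (T w))) = T (S (T (S w))) := fun w => congrArg (fun f : Module.End ℂ E => f w) hb
  set c : E := S (T (S (T v))) + S (T (S v)) + T (S (T v)) + T (S v) + S (T v) + S v + T v + v with hc
  have hSS := hS.sq
  have hTT := hT.sq
  have h1 : c ∈ Fq S a := by
    rw [mem_Fq, hc]
    simp only [map_add, hSS, smul_add]
    module
  have h2 : c ∈ Fq T b := by
    rw [mem_Fq, hc, hb']
    simp only [map_add, hTT, smul_add]
    module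
  have h3 : c ∈ Fq S a ⊓ Fq T b := ⟨h1, h2⟩
  rw [h0, Submodule.mem_bot, hc] at h3
  rw [← sub_eq_zero, ← h3]
  simp only [map_add, map_smul, hSS, hTT, smul_add]
  module

end pairs

section indep

variable [FiniteDimensional ℂ E] {ι : Type*} [Fintype ι] [DecidableEq ι]

/-- subspaces spanning `E` whose dimensions add up to `dim E` intersect trivially -/
theorem inf_eq_bot_of_sum (F : ι → Submodule ℂ E) (htop : ⨆ i, F i = ⊤)
    (hsum : ∑ i, finrank ℂ (F i) = finrank ℂ E) {i j : ι} (hij : i ≠ j) : F i ⊓ F j = ⊥ := by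
  let Φ : (∀ i, F i) →ₗ[ℂ] E := ∑ i, (F i).subtype ∘ₗ LinearMap.proj i
  have hΦ : ∀ x, Φ x = ∑ i, (x i : E) := fun x => by
    simp [Φ, LinearMap.sum_apply]
  have hsurj : Function.Surjective Φ := by
    rw [← LinearMap.range_eq_top, eq_top_iff, ← htop]
    refine iSup_le fun i v hv => ⟨Pi.single i ⟨v, hv⟩, ?_⟩
    rw [hΦ, Finset.sum_eq_single i]
    · simp
    · intro k _ hk
      rw [Pi.single_eq_of_ne hk]
      rfl
    · exact fun h => absurd (Finset.mem_univ i) h
  have hinj : Function.Injective Φ := by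
    refine (LinearMap.injective_iff_surjective_of_finrank_eq_finrank ?_).2 hsurj
    rw [Module.finrank_pi_fintype, hsum]
  rw [eq_bot_iff]
  intro v hv
  have h1 : Φ (Pi.single i ⟨v, hv.1⟩ - Pi.single j ⟨v, hv.2⟩) = 0 := by
    have hs : ∀ (k : ι) (hk : v ∈ F k), Φ (Pi.single k ⟨v, hk⟩) = v := by
      intro k hk
      rw [hΦ, Finset.sum_eq_single k]
      · simp
      · intro l _ hl
        rw [Pi.single_eq_of_ne hl]
        rfl
      · exact fun h => absurd (Finset.mem_univ k) h
    rw [map_sub, hs, hs, sub_self]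
  rw [← map_zero Φ] at h1
  have h2 := congrFun (hinj h1) i
  rw [Pi.sub_apply, Pi.single_eq_same, Pi.single_eq_of_ne hij, sub_zero] at h2
  exact congrArg Subtype.val h2

/-- a spanning family `x i ∈ F i`, `∑ dim F i = dim E`: the dimensions are zero or one -/
theorem finrank_of_span (F : ι → Submodule ℂ E) (hsum : ∑ i, finrank ℂ (F i) = finrank ℂ E) (x : ι → E)
    (hx : ∀ i, x i ∈ F i) (hspan : Submodule.span ℂ (Set.range x) = ⊤) [DecidablePred fun i => x i = 0] (i : ι) :
    finrank ℂ (F i) = if x i = 0 then 0 else 1 := by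
  classical
  have h1 : ∀ i, (if x i = 0 then 0 else 1) ≤ finrank ℂ (F i) := by
    intro i
    split_ifs with h
    · exact Nat.zero_le _
    · have h2 : F i ≠ ⊥ := fun hb => h (by simpa [hb] using hx i)
      exact Nat.one_le_iff_ne_zero.2 fun h3 => h2 (Submodule.finrank_eq_zero.1 h3)
  have h2 : finrank ℂ E ≤ ∑ i, (if x i = 0 then 0 else 1) := by
    have h3 : Submodule.span ℂ (((Finset.univ.filter fun i => ¬ x i = 0).image x : Finset E) : Set E) = ⊤ := by
      rw [eq_top_iff, ← hspan, Submodule.span_le]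
      rintro _ ⟨i, rfl⟩
      by_cases h : x i = 0
      · rw [h]; exact zero_mem _
      · refine Submodule.subset_span ?_
        rw [Finset.coe_image]
        exact ⟨i, by simp [h], rfl⟩
    have h4 := finrank_span_finset_le_card (R := ℂ) ((Finset.univ.filter fun i => ¬ x i = 0).image x)
    rw [Set.finrank, h3, finrank_top] at h4
    refine h4.trans (Finset.card_image_le.trans (le_of_eq ?_))
    rw [Finset.card_filter]
    exact Finset.sum_congr rfl fun i _ => by split_ifs <;> simp_all
  rw [← hsum] at h2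
  have h3 := (Finset.sum_eq_sum_iff_of_le fun i _ => h1 i).1 (le_antisymm (Finset.sum_le_sum fun i _ => h1 i) h2)
  exact (h3 i (Finset.mem_univ i)).symm

end indep

/-- An irreducible module of the Hecke algebra of type `B_n`, nodes `0, …, n - 1`, double bond at the end. -/
structure HB (n : ℕ) (q : ℕ → ℕ) (T : ℕ → Module.End ℂ E) : Prop where
  qpos : ∀ i < n, 0 < q i
  quad : ∀ i < n, Quad (T i) (q i)
  comm : ∀ i < n, ∀ j < n, i + 2 ≤ j → T i * T j = T j * T i
  three : ∀ i, i + 2 < n → T i * T (i + 1) * T i = T (i + 1) * T i * T (i + 1)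
  qeq : ∀ i, i + 2 < n → q i = q (i + 1)
  four : ∀ i, i + 2 = n → T i * T (i + 1) * T i * T (i + 1) = T (i + 1) * T i * T (i + 1) * T i
  irr : ∀ S : Submodule ℂ E, (∀ i < n, ∀ v ∈ S, T i v ∈ S) → S = ⊥ ∨ S = ⊤

namespace HB

variable [FiniteDimensional ℂ E] {n : ℕ} {q : ℕ → ℕ} {T : ℕ → Module.End ℂ E}

theorem sup_eq (H : HB n q T) : (⨆ i : Fin n, Fq (T i) (q i)) = ⊥ ∨ (⨆ i : Fin n, Fq (T i) (q i)) = ⊤ := by
  refine H.irr _ fun i hi v hv => ?_
  have h1 : T i v = (T i v + v) - v := by abel
  rw [h1]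
  exact sub_mem (Submodule.mem_iSup_of_mem (⟨i, hi⟩ : Fin n) ((H.quad i hi).mem v)) hv

theorem sup_eq_top [Nontrivial E] (H : HB n q T)
    (hsum : ∑ i ∈ Finset.range n, finrank ℂ (Fq (T i) (q i)) = finrank ℂ E) :
    (⨆ i : Fin n, Fq (T i) (q i)) = ⊤ := by
  refine H.sup_eq.resolve_left fun hb => ?_
  have h1 : ∀ i < n, Fq (T i) (q i) = ⊥ := fun i hi =>
    eq_bot_iff.2 ((le_iSup (fun i : Fin n => Fq (T i) (q i)) ⟨i, hi⟩).trans hb.le)
  have h2 : 0 < finrank ℂ E := finrank_pos
  rw [← hsum, Finset.sum_eq_zero] at h2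
  · exact absurd h2 (lt_irrefl 0)
  · intro i hi
    rw [h1 i (Finset.mem_range.1 hi), finrank_bot]

theorem inf_eq [Nontrivial E] (H : HB n q T)
    (hsum : ∑ i ∈ Finset.range n, finrank ℂ (Fq (T i) (q i)) = finrank ℂ E) {i j : ℕ} (hi : i < n) (hj : j < n)
    (hij : i ≠ j) : Fq (T i) (q i) ⊓ Fq (T j) (q j) = ⊥ :=
  inf_eq_bot_of_sum (fun i : Fin n => Fq (T i) (q i)) (H.sup_eq_top hsum)
    (by rw [← hsum, Finset.sum_range]) (i := ⟨i, hi⟩) (j := ⟨j, hj⟩) (fun h => hij (congrArg Fin.val h))

/-- the chain of vectors `y 0 = u ∈ F m`, `y (i + 1) ∈ F (m - i - 1)` -/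
noncomputable def chain (T : ℕ → Module.End ℂ E) (m : ℕ) (u : E) : ℕ → E
  | 0 => u
  | i + 1 => T (m - (i + 1)) (chain T m u i) + chain T m u i

theorem chain_mem {m : ℕ} (H : HB (m + 2) q T) {u : E} (hu : u ∈ Fq (T m) (q m)) :
    ∀ i ≤ m, chain T m u i ∈ Fq (T (m - i)) (q (m - i)) := by
  intro i hi
  rcases i with - | i
  · exact hu
  · exact (H.quad _ (by omega)).mem _

theorem chain_back [Nontrivial E] {m : ℕ} (H : HB (m + 2) q T)
    (hsum : ∑ i ∈ Finset.range (m + 2), finrank ℂ (Fq (T i) (q i)) = finrank ℂ E) {u : E}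
    (hu : u ∈ Fq (T m) (q m)) {i : ℕ} (hi : i + 1 ≤ m) :
    T (m - i) (chain T m u (i + 1)) + chain T m u (i + 1) = (q (m - i) : ℂ) • chain T m u i := by
  have e1 : m - i = m - (i + 1) + 1 := by omega
  have hq : q (m - (i + 1)) = q (m - i) := by
    rw [e1]
    exact H.qeq _ (by omega)
  have h0 : Fq (T (m - i)) (q (m - i)) ⊓ Fq (T (m - (i + 1))) (q (m - i)) = ⊥ := by
    rw [← hq]
    rw [hq]
    have := H.inf_eq hsum (i := m - i) (j := m - (i + 1)) (by omega) (by omega) (by omega)
    rwa [hq] at this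
  refine add_one_three (H.quad _ (by omega)) (by rw [← hq]; exact H.quad _ (by omega)) ?_ h0
    (H.chain_mem hu i (by omega))
  have h3 := H.three (m - (i + 1)) (by omega)
  rw [← e1] at h3
  exact h3.symm

/-- **The middle case** of type `B_n`. -/
theorem mid [Nontrivial E] (H : HB n q T) (hn : 2 ≤ n)
    (hsum : ∑ i ∈ Finset.range n, finrank ℂ (Fq (T i) (q i)) = finrank ℂ E) :
    (finrank ℂ E = 1 ∧ (∀ i < n - 1, finrank ℂ (Fq (T i) (q i)) = 0) ∧ finrank ℂ (Fq (T (n - 1)) (q (n - 1))) = 1) ∨
    (finrank ℂ E = n - 1 ∧ (∀ i < n - 1, finrank ℂ (Fq (T i) (q i)) = 1) ∧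
      finrank ℂ (Fq (T (n - 1)) (q (n - 1))) = 0) ∨
    (finrank ℂ E = n ∧ ∀ i < n, finrank ℂ (Fq (T i) (q i)) = 1) := by
  classical
  obtain ⟨m, rfl⟩ : ∃ m, n = m + 2 := ⟨n - 2, by omega⟩
  rw [show m + 2 - 1 = m + 1 by omega]
  have hinf := fun {i j : ℕ} (hi : i < m + 2) (hj : j < m + 2) (hij : i ≠ j) => H.inf_eq hsum hi hj hij
  -- the products of commuting operators vanish
  have hcomm : ∀ i < m + 2, ∀ j < m + 2, (i + 2 ≤ j ∨ j + 2 ≤ i) → ∀ v ∈ Fq (T j) (q j), T i v + v = 0 := by
    intro i hi j hj hij v hv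
    have hc : T i * T j = T j * T i := by
      rcases hij with h | h
      · exact H.comm i hi j hj h
      · exact (H.comm j hj i hi h).symm
    have h1 := add_one_two (H.quad i hi) (H.quad j hj) hc (hinf hi hj (by omega)) v
    rw [mem_Fq.1 hv, map_add, map_smul] at h1
    have h2 : ((q j : ℂ) + 1) • (T i v + v) = 0 := by rw [← h1]; module
    have h3 : ((q j : ℂ) + 1) ≠ 0 := by exact_mod_cast Nat.succ_ne_zero (q j)
    exact (smul_eq_zero.1 h2).resolve_left h3
  by_cases hm : Fq (T m) (q m) = ⊥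
  · -- all short fixed spaces vanish
    left
    have hz : ∀ k ≤ m, Fq (T (m - k)) (q (m - k)) = ⊥ := by
      intro k
      induction k with
      | zero => exact fun _ => hm
      | succ k ih =>
        intro hk
        have h1 := ih (by omega)
        rw [eq_bot_iff]
        intro v hv
        have e1 : m - k = m - (k + 1) + 1 := by omega
        have hq : q (m - (k + 1)) = q (m - k) := by rw [e1]; exact H.qeq _ (by omega)
        have h0 : Fq (T (m - (k + 1))) (q (m - (k + 1))) ⊓ Fq (T (m - k)) (q (m - (k + 1))) = ⊥ := by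
          have := hinf (i := m - (k + 1)) (j := m - k) (by omega) (by omega) (by omega)
          rwa [← hq] at this
        have h2 := add_one_three (H.quad _ (by omega)) (by rw [hq]; exact H.quad _ (by omega))
          (by have := H.three (m - (k + 1)) (by omega); rwa [← e1] at this) h0 hv
        have h3 : T (m - k) v + v = 0 := by
          have := (H.quad (m - k) (by omega)).mem v
          rwa [h1, Submodule.mem_bot] at this
        rw [h3, map_zero, add_zero] at h2
        exact (smul_eq_zero.1 h2.symm).resolve_left (by exact_mod_cast (H.qpos _ (by omega)).ne')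
    have hz' : ∀ i < m + 1, Fq (T i) (q i) = ⊥ := by
      intro i hi
      have := hz (m - i) (by omega)
      rwa [Nat.sub_sub_self (by omega)] at this
    have hz'' : ∀ i < m + 1, finrank ℂ (Fq (T i) (q i)) = 0 := fun i hi => by rw [hz' i hi, finrank_bot]
    have hlast : finrank ℂ (Fq (T (m + 1)) (q (m + 1))) = finrank ℂ E := by
      rw [← hsum, Finset.sum_range_succ, Finset.sum_eq_zero, zero_add]
      exact fun i hi => hz'' i (Finset.mem_range.1 hi)
    have htop : Fq (T (m + 1)) (q (m + 1)) = ⊤ := Submodule.eq_top_of_finrank_eq hlast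
    obtain ⟨u, hu⟩ := exists_ne (0 : E)
    have hspan : Submodule.span ℂ {u} = ⊤ := by
      refine (H.irr (Submodule.span ℂ {u}) fun i hi v hv => ?_).resolve_left ?_
      · rcases Nat.lt_or_ge i (m + 1) with h | h
        · rw [(H.quad i hi).neg (hz' i h)]
          exact neg_mem hv
        · obtain rfl : i = m + 1 := by omega
          have : v ∈ Fq (T (m + 1)) (q (m + 1)) := by rw [htop]; exact Submodule.mem_top
          rw [mem_Fq.1 this]
          exact Submodule.smul_mem _ _ hv
      · intro hb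
        exact hu (by simpa using hb)
    have h1 : finrank ℂ E = 1 := by
      rw [← finrank_top ℂ E, ← hspan, finrank_span_singleton hu]
    exact ⟨h1, hz'', hlast.trans h1⟩
  · -- an eigenvector of the operator of the double bond
    right
    have hq1 := H.quad m (by omega)
    have hq2 := H.quad (m + 1) (by omega)
    have h4 := add_one_four hq1 hq2 (H.four m rfl) (hinf (by omega) (by omega) (by omega))
    obtain ⟨u, c, hu0, hu, huc⟩ : ∃ (u : E) (c : ℂ), u ≠ 0 ∧ u ∈ Fq (T m) (q m) ∧
        T m (T (m + 1) u + u) + (T (m + 1) u + u) = c • u := by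
      obtain ⟨v, hv, hv0⟩ := Submodule.exists_mem_ne_zero_of_ne_bot hm
      by_cases hw : T m (T (m + 1) v + v) + (T (m + 1) v + v) = 0
      · exact ⟨v, 0, hv0, hv, by rw [hw, zero_smul]⟩
      · exact ⟨_, (q m : ℂ) + q (m + 1), hw, hq1.mem _, h4 v⟩
    let x : Fin (m + 2) → E := fun j => if (j : ℕ) = m + 1 then T (m + 1) u + u else chain T m u (m - j)
    have hxlast : ∀ j : Fin (m + 2), (j : ℕ) = m + 1 → x j = T (m + 1) u + u := fun j hj => if_pos hj
    have hxs : ∀ j : Fin (m + 2), (j : ℕ) ≤ m → x j = chain T m u (m - j) := fun j hj => if_neg (by omega)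
    have hxm : ∀ j : Fin (m + 2), (j : ℕ) = m → x j = u := by
      intro j hj
      rw [hxs j hj.le, hj, Nat.sub_self]
      rfl
    have hxF : ∀ j : Fin (m + 2), x j ∈ Fq (T j) (q j) := by
      intro j
      rcases Nat.lt_or_ge j (m + 1) with h | h
      · rw [hxs j (by omega)]
        have := H.chain_mem hu (m - j) (by omega)
        rwa [Nat.sub_sub_self (by omega)] at this
      · have hj : (j : ℕ) = m + 1 := by omega
        rw [hxlast j hj, hj]
        exact hq2.mem u
    set S : Submodule ℂ E := Submodule.span ℂ (Set.range x) with hS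
    have hxS : ∀ j, x j ∈ S := fun j => Submodule.subset_span ⟨j, rfl⟩
    have hstep : ∀ i < m + 2, ∀ j : Fin (m + 2), T i (x j) + x j ∈ S := by
      intro i hi j
      rcases Nat.lt_trichotomy i j with hlt | heq | hgt
      · rcases Nat.lt_or_ge (i + 1) j with h | h
        · rw [hcomm i hi j j.2 (Or.inl h) _ (hxF j)]
          exact zero_mem _
        · have hj : (j : ℕ) = i + 1 := by omega
          rcases Nat.lt_or_ge i m with him | him
          · -- `x i = (T i + 1) (x (i + 1))`
            have e1 : x ⟨i, hi⟩ = T i (x j) + x j := by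
              rw [hxs ⟨i, hi⟩ (by show i ≤ m; omega), hxs j (by omega)]
              show chain T m u (m - i) = _
              have e2 : m - i = (m - (i + 1)) + 1 := by omega
              rw [e2, hj]
              show T (m - (m - (i + 1) + 1)) (chain T m u (m - (i + 1))) + chain T m u (m - (i + 1)) = _
              rw [show m - (m - (i + 1) + 1) = i by omega]
            rw [← e1]
            exact hxS _
          · -- `i = m`, `j = m + 1`
            obtain rfl : i = m := by omega
            rw [hxlast j hj, huc]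
            exact Submodule.smul_mem _ _ (by rw [← hxm ⟨i, hi⟩ rfl]; exact hxS _)
      · have h1 := mem_Fq.1 (hxF j)
        rw [heq, h1]
        exact add_mem (Submodule.smul_mem _ _ (hxS j)) (hxS j)
      · rcases Nat.lt_or_ge (j + 1) i with h | h
        · rw [hcomm i hi j j.2 (Or.inr h) _ (hxF j)]
          exact zero_mem _
        · have hj : i = j + 1 := by omega
          rcases Nat.lt_or_ge j m with hjm | hjm
          · -- `(T (j + 1) + 1) (x j) = q • x (j + 1)`
            have e1 := H.chain_back hsum hu (i := m - (j + 1)) (by omega)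
            rw [show m - (m - ((j : ℕ) + 1)) = j + 1 by omega, show m - ((j : ℕ) + 1) + 1 = m - j by omega] at e1
            rw [hxs j (by omega), hj, e1]
            refine Submodule.smul_mem _ _ ?_
            have e2 := hxs ⟨j + 1, by omega⟩ (by show (j : ℕ) + 1 ≤ m; omega)
            have e3 : x ⟨j + 1, by omega⟩ = chain T m u (m - ((j : ℕ) + 1)) := e2
            rw [← e3]
            exact hxS _
          · have hjm' : (j : ℕ) = m := by omega
            rw [hxm j hjm', hj, hjm', ← hxlast ⟨m + 1, by omega⟩ rfl]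
            exact hxS _
    have hStop : S = ⊤ := by
      refine (H.irr S fun i hi v hv => ?_).resolve_left ?_
      · have h1 : T i v = (T i v + v) - v := by abel
        rw [h1]
        refine sub_mem ?_ hv
        induction hv using Submodule.span_induction with
        | mem v hv =>
          obtain ⟨j, rfl⟩ := hv
          exact hstep i hi j
        | zero => rw [map_zero, add_zero]; exact zero_mem _
        | add a b _ _ ha hb =>
          have : T i (a + b) + (a + b) = (T i a + a) + (T i b + b) := by rw [map_add]; abel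
          rw [this]
          exact add_mem (ha (by abel)) (hb (by abel))
        | smul r a _ ha =>
          have : T i (r • a) + r • a = r • (T i a + a) := by rw [map_smul, smul_add]
          rw [this]
          exact Submodule.smul_mem _ _ (ha (by abel))
      · intro hb
        apply hu0
        have := hxS ⟨m, by omega⟩
        rw [hb, Submodule.mem_bot, hxm ⟨m, by omega⟩ rfl] at this
        exact this
    have hfin := finrank_of_span (fun i : Fin (m + 2) => Fq (T i) (q i)) (by rw [← hsum, Finset.sum_range]) x hxF hStop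
    -- the short vectors are not zero
    have hne : ∀ k ≤ m, chain T m u k ≠ 0 := by
      intro k
      induction k with
      | zero => exact fun _ => hu0
      | succ k ih =>
        intro hk h0
        have h1 := H.chain_back hsum hu (i := k) hk
        rw [h0, map_zero, add_zero] at h1
        exact ih (by omega) ((smul_eq_zero.1 h1.symm).resolve_left (by exact_mod_cast (H.qpos _ (by omega)).ne'))
    have hshort : ∀ i < m + 1, finrank ℂ (Fq (T i) (q i)) = 1 := by
      intro i hi
      have h1 := hfin ⟨i, by omega⟩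
      rw [if_neg] at h1
      · exact h1
      · rw [hxs ⟨i, by omega⟩ (by show i ≤ m; omega)]
        exact hne _ (by omega)
    have hsum' : finrank ℂ E = (m + 1) + finrank ℂ (Fq (T (m + 1)) (q (m + 1))) := by
      rw [← hsum, Finset.sum_range_succ, Finset.sum_congr rfl fun i hi => hshort i (Finset.mem_range.1 hi)]
      simp
    have hl := hfin ⟨m + 1, by omega⟩
    change finrank ℂ (Fq (T (m + 1)) (q (m + 1))) = _ at hl
    by_cases hx : x ⟨m + 1, by omega⟩ = 0
    · rw [if_pos hx] at hl
      left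
      exact ⟨by omega, hshort, hl⟩
    · rw [if_neg hx] at hl
      right
      refine ⟨by omega, fun i hi => ?_⟩
      rcases Nat.lt_or_ge i (m + 1) with h | h
      · exact hshort i h
      · obtain rfl : i = m + 1 := by omega
        exact hl

end HB

/-- **The middle case** of type `B_n`, arbitrary index type: `e 0 - e 1 - … - e (n-2) = e (n-1)`. -/
theorem mid_equiv [FiniteDimensional ℂ E] [Nontrivial E] {I : Type*} [Fintype I] {n : ℕ} (hn : 2 ≤ n) (e : Fin n ≃ I)
    {q : I → ℕ} {T : I → Module.End ℂ E} (qpos : ∀ i, 0 < q i) (quad : ∀ i, Quad (T i) (q i))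
    (comm : ∀ i j : Fin n, (i : ℕ) + 2 ≤ j → T (e i) * T (e j) = T (e j) * T (e i))
    (three : ∀ i j : Fin n, (j : ℕ) = i + 1 → (i : ℕ) + 2 < n →
      T (e i) * T (e j) * T (e i) = T (e j) * T (e i) * T (e j) ∧ q (e i) = q (e j))
    (four : ∀ i j : Fin n, (j : ℕ) = i + 1 → (i : ℕ) + 2 = n →
      T (e i) * T (e j) * T (e i) * T (e j) = T (e j) * T (e i) * T (e j) * T (e i))
    (irr : ∀ S : Submodule ℂ E, (∀ i, ∀ v ∈ S, T i v ∈ S) → S = ⊥ ∨ S = ⊤)
    (hsum : ∑ i, finrank ℂ (Fq (T i) (q i)) = finrank ℂ E) :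
    (∀ i j : I, i ≠ j → Fq (T i) (q i) ⊓ Fq (T j) (q j) = ⊥) ∧
    ((finrank ℂ E = 1 ∧ (∀ i : Fin n, (i : ℕ) + 1 < n → finrank ℂ (Fq (T (e i)) (q (e i))) = 0) ∧
        ∀ i : Fin n, (i : ℕ) + 1 = n → finrank ℂ (Fq (T (e i)) (q (e i))) = 1) ∨
    (finrank ℂ E = n - 1 ∧ (∀ i : Fin n, (i : ℕ) + 1 < n → finrank ℂ (Fq (T (e i)) (q (e i))) = 1) ∧
        ∀ i : Fin n, (i : ℕ) + 1 = n → finrank ℂ (Fq (T (e i)) (q (e i))) = 0) ∨
    (finrank ℂ E = n ∧ ∀ i : I, finrank ℂ (Fq (T i) (q i)) = 1)) := by
  classical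
  let T' : ℕ → Module.End ℂ E := fun k => if h : k < n then T (e ⟨k, h⟩) else 0
  let q' : ℕ → ℕ := fun k => if h : k < n then q (e ⟨k, h⟩) else 0
  have hT : ∀ k (h : k < n), T' k = T (e ⟨k, h⟩) := fun k h => dif_pos h
  have hq : ∀ k (h : k < n), q' k = q (e ⟨k, h⟩) := fun k h => dif_pos h
  have hsum' : ∑ i ∈ Finset.range n, finrank ℂ (Fq (T' i) (q' i)) = finrank ℂ E := by
    rw [Finset.sum_range, ← hsum, ← e.sum_comp]
    exact Finset.sum_congr rfl fun i _ => by rw [hT i i.2, hq i i.2]
  have H : HB n q' T' := by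
    refine ⟨fun i hi => ?_, fun i hi => ?_, fun i hi j hj hij => ?_, fun i hi => ?_, fun i hi => ?_, fun i hi => ?_,
      fun S hS => ?_⟩
    · rw [hq i hi]; exact qpos _
    · rw [hq i hi, hT i hi]; exact quad _
    · rw [hT i hi, hT j hj]; exact comm _ _ hij
    · rw [hT i (by omega), hT (i + 1) (by omega)]
      exact (three ⟨i, by omega⟩ ⟨i + 1, by omega⟩ rfl hi).1
    · rw [hq i (by omega), hq (i + 1) (by omega)]
      exact (three ⟨i, by omega⟩ ⟨i + 1, by omega⟩ rfl hi).2
    · rw [hT i (by omega), hT (i + 1) (by omega)]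
      exact four ⟨i, by omega⟩ ⟨i + 1, by omega⟩ rfl hi
    · refine irr S fun i v hv => ?_
      have := hS (e.symm i) (e.symm i).2 v hv
      rwa [hT _ (e.symm i).2, Fin.eta, e.apply_symm_apply] at this
  have hF : ∀ i : I, Fq (T' (e.symm i)) (q' (e.symm i)) = Fq (T i) (q i) := by
    intro i
    rw [hT _ (e.symm i).2, hq _ (e.symm i).2, Fin.eta, e.apply_symm_apply]
  have hF' : ∀ i : Fin n, Fq (T' i) (q' i) = Fq (T (e i)) (q (e i)) := fun i => by
    rw [hT _ i.2, hq _ i.2]
  refine ⟨fun i j hij => ?_, ?_⟩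
  · rw [← hF i, ← hF j]
    exact H.inf_eq hsum' (e.symm i).2 (e.symm j).2 fun h => hij (e.symm.injective (Fin.ext h))
  · rcases H.mid hn hsum' with ⟨h1, h2, h3⟩ | ⟨h1, h2, h3⟩ | ⟨h1, h2⟩
    · refine Or.inl ⟨h1, fun i hi => ?_, fun i hi => ?_⟩
      · rw [← hF' i]; exact h2 i (by omega)
      · rw [← hF' i]
        have e1 : (i : ℕ) = n - 1 := by omega
        rw [e1]; exact h3
    · refine Or.inr (Or.inl ⟨h1, fun i hi => ?_, fun i hi => ?_⟩)
      · rw [← hF' i]; exact h2 i (by omega)
      · rw [← hF' i]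
        have e1 : (i : ℕ) = n - 1 := by omega
        rw [e1]; exact h3
    · refine Or.inr (Or.inr ⟨h1, fun i => ?_⟩)
      rw [← hF i]
      exact h2 _ (e.symm i).2

end Cfsg.Agent.H639.OZ
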