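import Cfsg.Agent.H985.VZ.Fix
import Cfsg.Agent.Nodes.LeviDec

/-!
# S4842, toolkit section 6, the root group frame: `P_J` acting on `V^{V_J}` and the double cosets of its parabolic subgroups

* `cw g` : the element `w` with `g ∈ B n_w B`; `exists_dbl_iff`, `card_dbl` : `P_K \ P_J / P_K'` = `W_K \ W_J / W_K'`;
* `sig ρ J` : the representation of `P_J` on `V^{V_J}`; `finrank_fx_sig`, `sig_span`, `char_eq_sig`.
-/

set_option autoImplicit false
set_option linter.unusedSectionVars false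

open Cfsg

namespace Cfsg.Agent.H639.OZ

open CoxeterSystem Cfsg.Agent.ChevalleyStructure.CoxeterGeom Cfsg.Agent.Tits.Roots Cfsg.Agent.Tits.Core
  Cfsg.Agent.Tits.Exchange Cfsg.Agent.Nodes.Reps Cfsg.Agent.Nodes.BNOf Cfsg.Agent.Nodes.StabComb
  Cfsg.Agent.Nodes.Bruhat Cfsg.Agent.Nodes.OppDec Cfsg.Agent.Nodes.LeviDec Cfsg.Agent.H985.VZ Module

universe u v

variable {I W : Type*} {Y : Type u} [Fintype I] [DecidableEq I] [Group W] [Group Y] {M : CoxeterMatrix I}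
  {cs : CoxeterSystem M W} {A : I → I → ℤ} {h : IsCartan M A} {p : ℕ} {T : Subgroup Y} {n : I → Y}
  {X : (I → ℤ) → Subgroup Y}

variable (R : RGD cs h p T n X)

include R

section dbl

variable [Finite W] (hG : GG cs h T X = ⊤)

/-- the cell of `g` -/
noncomputable def cw (g : Y) : W := ((mem_GG R).1 (show g ∈ GG cs h T X by rw [hG]; exact Subgroup.mem_top g)).choose

theorem cell_cw (g : Y) : Cell R.nsys cs h X (cw R hG g) g :=
  ((mem_GG R).1 (show g ∈ GG cs h T X by rw [hG]; exact Subgroup.mem_top g)).choose_spec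

theorem cw_eq {w : W} {g : Y} (hg : Cell R.nsys cs h X w g) : cw R hG g = w := Cell.unique R (cell_cw R hG g) hg

theorem cw_inv (g : Y) : cw R hG g⁻¹ = (cw R hG g)⁻¹ := cw_eq R hG (cell_cw R hG g).inv

theorem mem_PJ_iff_cw {J : Set I} {g : Y} : g ∈ PJ cs h T X J ↔ cw R hG g ∈ WJ cs J :=
  cell_mem_PJ_iff R (cell_cw R hG g)

theorem cw_mul_left {K : Set I} {a : Y} (ha : a ∈ PJ cs h T X K) (g : Y) :
    ∃ v ∈ WJ cs K, cw R hG (a * g) = v * cw R hG g := by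
  have key : ∀ ω : List I, (∀ i ∈ ω, i ∈ K) → ∀ a : Y, Cell R.nsys cs h X (cs.wordProd ω) a → ∀ g,
      ∃ v ∈ WJ cs K, cw R hG (a * g) = v * cw R hG g := by
    intro ω
    induction ω with
    | nil =>
      intro _ a ha g
      rw [wordProd_nil] at ha
      exact ⟨1, one_mem _, by rw [one_mul]; exact cw_eq R hG ((cell_cw R hG g).mul_left ha.mem_of_one)⟩
    | cons i ω ih =>
      intro hω a ha g
      obtain ⟨b₁, hb₁, k, hk, b₂, hb₂, rfl⟩ := ha
      rw [wordProd_cons] at hk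
      have h1 : Rp cs R.nsys (cs.wordProd ω) ((n i)⁻¹ * k) := by
        have := (rp_simple cs R.nsys i).inv.mul hk
        rwa [inv_simple, simple_mul_simple_cancel_left] at this
      obtain ⟨v, hv, h2⟩ := ih (fun j hj => hω j (by simp [hj])) ((n i)⁻¹ * k * b₂)
        ((cell_of_rp h1).mul_right hb₂) g
      have e : b₁ * k * b₂ * g = b₁ * (n i * ((n i)⁻¹ * k * b₂ * g)) := by group
      have h3 := cell_cw R hG ((n i)⁻¹ * k * b₂ * g)
      rw [h2] at h3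
      rcases Cell.simple_mul R (cell_of_rp (rp_simple cs R.nsys i)) h3 with h4 | ⟨-, h4⟩
      · refine ⟨cs.simple i * v, mul_mem (simple_mem_WJ cs (hω i (by simp))) hv, ?_⟩
        rw [e]
        have := cw_eq R hG (h4.mul_left hb₁)
        rw [this, mul_assoc]
      · refine ⟨v, hv, ?_⟩
        rw [e]
        exact cw_eq R hG (h4.mul_left hb₁)
  obtain ⟨w, hw, hc⟩ := (mem_PJ_iff_cell R).1 ha
  obtain ⟨ω, hω, rfl⟩ := exists_word_of_mem_WJ cs hw
  exact key ω hω a hc g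

theorem cw_mul_right {K : Set I} {b : Y} (hb : b ∈ PJ cs h T X K) (g : Y) :
    ∃ v ∈ WJ cs K, cw R hG (g * b) = cw R hG g * v := by
  obtain ⟨v, hv, e⟩ := cw_mul_left R hG (inv_mem hb) g⁻¹
  refine ⟨v⁻¹, inv_mem hv, ?_⟩
  have h1 : g * b = (b⁻¹ * g⁻¹)⁻¹ := by group
  rw [h1, cw_inv, e, cw_inv, mul_inv_rev, inv_inv]

theorem exists_dbl_iff {K K' : Set I} {g g' : Y} :
    (∃ a ∈ PJ cs h T X K, ∃ b ∈ PJ cs h T X K', g' = a * g * b) ↔
      ∃ v ∈ WJ cs K, ∃ w ∈ WJ cs K', cw R hG g' = v * cw R hG g * w := by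
  constructor
  · rintro ⟨a, ha, b, hb, rfl⟩
    obtain ⟨v, hv, e1⟩ := cw_mul_left R hG ha g
    obtain ⟨w, hw, e2⟩ := cw_mul_right R hG hb (a * g)
    exact ⟨v, hv, w, hw, by rw [e2, e1]⟩
  · rintro ⟨v, hv, w, hw, e⟩
    obtain ⟨b₁, hb₁, k, hk, b₂, hb₂, e1⟩ := cell_cw R hG g
    obtain ⟨c₁, hc₁, k', hk', c₂, hc₂, e2⟩ := cell_cw R hG g'
    obtain ⟨x, hx⟩ := exists_rp cs R.nsys v
    obtain ⟨y, hy⟩ := exists_rp cs R.nsys w
    have h1 : Rp cs R.nsys (cw R hG g') (x * k * y) := by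
      rw [e]
      exact (hx.mul hk).mul hy
    have ht : (x * k * y)⁻¹ * k' ∈ T := h1.unique hk'
    refine ⟨c₁ * x * b₁⁻¹, mul_mem (mul_mem (B_le_PJ hc₁) (LJ_le_PJ (rp_mem_LJ R hv hx))) (B_le_PJ (inv_mem hb₁)),
      b₂⁻¹ * y * ((x * k * y)⁻¹ * k') * c₂, mul_mem (mul_mem (mul_mem (B_le_PJ (inv_mem hb₂))
        (LJ_le_PJ (rp_mem_LJ R hw hy))) (B_le_PJ (RGD.T_le_B ht))) (B_le_PJ hc₂), ?_⟩
    rw [e1, e2]
    group

omit R [Finite W] in
theorem PJ_mono' (R : RGD cs h p T n X) [Finite W] {K J : Set I} (hKJ : K ⊆ J) : PJ cs h T X K ≤ PJ cs h T X J := by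
  intro g hg
  obtain ⟨w, hw, hc⟩ := (mem_PJ_iff_cell R).1 hg
  exact (mem_PJ_iff_cell R).2 ⟨w, WJ_mono cs hKJ hw, hc⟩

include hG in
/-- **double cosets of parabolic subgroups of `P_J`** -/
theorem card_dbl {J K K' : Set I} (hK : K ⊆ J) (hK' : K' ⊆ J) :
    Nat.card (DoubleCoset.Quotient (((PJ cs h T X K).subgroupOf (PJ cs h T X J) : Subgroup (PJ cs h T X J)) :
      Set (PJ cs h T X J)) (((PJ cs h T X K').subgroupOf (PJ cs h T X J) : Subgroup (PJ cs h T X J)) :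
      Set (PJ cs h T X J))) =
    Nat.card (DoubleCoset.Quotient (((WJ cs K).subgroupOf (WJ cs J) : Subgroup (WJ cs J)) : Set (WJ cs J))
      (((WJ cs K').subgroupOf (WJ cs J) : Subgroup (WJ cs J)) : Set (WJ cs J))) := by
  let f : PJ cs h T X J → WJ cs J := fun g => ⟨cw R hG g, (mem_PJ_iff_cw R hG).1 g.2⟩
  have hf : ∀ a b : PJ cs h T X J,
      DoubleCoset.setoid (((PJ cs h T X K).subgroupOf (PJ cs h T X J) : Subgroup (PJ cs h T X J)) :
        Set (PJ cs h T X J)) (((PJ cs h T X K').subgroupOf (PJ cs h T X J) : Subgroup (PJ cs h T X J)) :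
        Set (PJ cs h T X J)) a b ↔
      DoubleCoset.setoid (((WJ cs K).subgroupOf (WJ cs J) : Subgroup (WJ cs J)) : Set (WJ cs J))
      (((WJ cs K').subgroupOf (WJ cs J) : Subgroup (WJ cs J)) : Set (WJ cs J)) (f a) (f b) := by
    intro a b
    rw [DoubleCoset.rel_iff, DoubleCoset.rel_iff]
    have h1 := exists_dbl_iff R hG (K := K) (K' := K') (g := (a : Y)) (g' := (b : Y))
    constructor
    · rintro ⟨x, hx, y, hy, e⟩
      obtain ⟨v, hv, w, hw, e1⟩ := h1.1 ⟨x, hx, y, hy, congrArg Subtype.val e⟩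
      exact ⟨⟨v, WJ_mono cs hK hv⟩, hv, ⟨w, WJ_mono cs hK' hw⟩, hw, Subtype.ext e1⟩
    · rintro ⟨v, hv, w, hw, e⟩
      obtain ⟨x, hx, y, hy, e1⟩ := h1.2 ⟨v, hv, w, hw, congrArg Subtype.val e⟩
      exact ⟨⟨x, PJ_mono' R hK hx⟩, hx, ⟨y, PJ_mono' R hK' hy⟩, hy, Subtype.ext e1⟩
  refine Nat.card_congr (Equiv.ofBijective (Quotient.map f fun a b h => (hf a b).1 h) ⟨?_, ?_⟩)
  · intro a b
    induction a using Quotient.inductionOn with
    | _ a =>
    induction b using Quotient.inductionOn with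
    | _ b =>
    intro h
    exact Quotient.sound ((hf a b).2 (Quotient.exact h))
  · intro w
    induction w using Quotient.inductionOn with
    | _ w =>
    obtain ⟨g, hg⟩ := exists_rp cs R.nsys (w : W)
    have hgP : g ∈ PJ cs h T X J := LJ_le_PJ (rp_mem_LJ R w.2 hg)
    refine ⟨Quotient.mk _ ⟨g, hgP⟩, ?_⟩
    show Quotient.mk _ (f ⟨g, hgP⟩) = Quotient.mk _ w
    congr 1
    exact Subtype.ext (cw_eq R hG (cell_of_rp hg))

end dbl

section rep

variable [Finite W] [Finite Y] {V : Type v} [AddCommGroup V] [Module ℂ V] (ρ : Representation ℂ Y V)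

/-- `P_J` acts on `V^{V_J}` -/
noncomputable def sig (J : Set I) : Representation ℂ (PJ cs h T X J) (fx ρ (VJ cs h X J)) where
  toFun g := (ρ g).restrict fun _ hv => rho_fx_VJ R g.2 hv
  map_one' := by
    ext v
    rw [LinearMap.coe_restrict_apply]
    simp
  map_mul' a b := by
    ext v
    rw [LinearMap.coe_restrict_apply, Module.End.mul_apply, LinearMap.coe_restrict_apply,
      LinearMap.coe_restrict_apply, Subgroup.coe_mul, map_mul, Module.End.mul_apply]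

theorem sig_apply (J : Set I) (g : PJ cs h T X J) (v : fx ρ (VJ cs h X J)) :
    (sig R ρ J g v : V) = ρ g v := rfl

theorem mem_fx_sig {J K : Set I} (v : fx ρ (VJ cs h X J)) (hKJ : K ⊆ J) :
    v ∈ fx (sig R ρ J) ((PJ cs h T X K).subgroupOf (PJ cs h T X J)) ↔ (v : V) ∈ fx ρ (PJ cs h T X K) := by
  constructor
  · intro hv x hx
    exact congrArg Subtype.val (hv ⟨x, PJ_mono' R hKJ hx⟩ hx)
  · intro hv x hx
    exact Subtype.ext (hv x hx)

theorem VJ_le_PJ' {J K : Set I} (hKJ : K ⊆ J) : VJ cs h X J ≤ PJ cs h T X K := by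
  refine le_trans (RGD.Sup_mono fun x hx => ?_) (VJ_le_PJ (J := K))
  obtain ⟨h1, h2, k, hk, hk0⟩ := hx
  exact ⟨h1, h2, k, fun hkK => hk (hKJ hkK), hk0⟩

theorem finrank_fx_sig {J K : Set I} (hKJ : K ⊆ J) :
    finrank ℂ (fx (sig R ρ J) ((PJ cs h T X K).subgroupOf (PJ cs h T X J))) = finrank ℂ (fx ρ (PJ cs h T X K)) := by
  have h1 : (fx (sig R ρ J) ((PJ cs h T X K).subgroupOf (PJ cs h T X J))).map (fx ρ (VJ cs h X J)).subtype =
      fx ρ (PJ cs h T X K) := by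
    ext v
    constructor
    · rintro ⟨w, hw, rfl⟩
      exact (mem_fx_sig R ρ w hKJ).1 hw
    · intro hv
      exact ⟨⟨v, fx_mono (VJ_le_PJ' R hKJ) hv⟩, (mem_fx_sig R ρ _ hKJ).2 hv, rfl⟩
  rw [← h1]
  exact (Submodule.finrank_map_subtype_eq _ _).symm

theorem PJ_empty : PJ cs h T X (∅ : Set I) = RGD.B cs h T X := by
  apply le_antisymm _ B_le_PJ
  intro g hg
  obtain ⟨w, hw, hc⟩ := (mem_PJ_iff_cell R).1 hg
  have h1 : w = 1 := by
    obtain ⟨ω, hω, rfl⟩ := exists_word_of_mem_WJ cs hw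
    have : ω = [] := List.eq_nil_iff_forall_not_mem.2 fun i hi => hω i hi
    rw [this, wordProd_nil]
  rw [h1] at hc
  exact hc.mem_of_one

variable {ρ}

/-- `V^{V_J}` is generated by `V^B` under `P_J` -/
theorem sig_span (hG : GG cs h T X = ⊤) (hρ : ρ.IsIrreducible) (h0 : VU cs h X ρ ≠ ⊥)
    (hUB : VU cs h X ρ ≤ fx ρ (RGD.B cs h T X)) (J : Set I) (N : Subrepresentation (sig R ρ J))
    (hN : fx (sig R ρ J) ((PJ cs h T X ∅).subgroupOf (PJ cs h T X J)) ≤ N.toSubmodule) : N.toSubmodule = ⊤ := by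
  have h1 := gen_VJ R hG hρ h0 J (S := N.toSubmodule.map (fx ρ (VJ cs h X J)).subtype) (by
    intro g hg v hv
    have hvJ : v ∈ fx ρ (VJ cs h X J) := fx_mono (VJ_le_U J) hv
    have hvB : (⟨v, hvJ⟩ : fx ρ (VJ cs h X J)) ∈
        fx (sig R ρ J) ((PJ cs h T X ∅).subgroupOf (PJ cs h T X J)) := by
      rw [mem_fx_sig R ρ _ (Set.empty_subset J), PJ_empty R]
      exact hUB hv
    exact ⟨sig R ρ J ⟨g, hg⟩ ⟨v, hvJ⟩, N.apply_mem_toSubmodule _ (hN hvB), rfl⟩)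
  rw [eq_top_iff]
  rintro ⟨v, hv⟩ -
  obtain ⟨w, hw, e⟩ := h1 hv
  have : w = ⟨v, hv⟩ := Subtype.ext e
  rwa [← this]

variable [FiniteDimensional ℂ V]

/-- the value at a free element -/
theorem char_eq_sig {J : Set I} {t : Y} (ht : Free cs h T X J t) :
    ρ.character t = (sig R ρ J).character ⟨t, LJ_le_PJ ht.mem⟩ := by
  have hf : ∀ v, (ρ t * av ρ (VJ cs h X J)) v ∈ fx ρ (VJ cs h X J) := fun v =>
    rho_fx_VJ R (LJ_le_PJ ht.mem) (av_mem ρ _ v)
  rw [ht.trace_eq R, ← LinearMap.trace_restrict_eq_of_forall_mem (fx ρ (VJ cs h X J)) _ hf]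
  change LinearMap.trace ℂ _ _ = LinearMap.trace ℂ _ _
  congr 1
  ext v
  rw [LinearMap.coe_restrict_apply, Module.End.mul_apply, av_of_mem v.2]
  rfl

end rep

end Cfsg.Agent.H639.OZ
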